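import Cfsg.Agent.H746.OddM.ThreeBase
import Mathlib.LinearAlgebra.Matrix.CharP
import Mathlib.GroupTheory.Sylow

/-!
# S4785, dimension 3: unipotent elements of order `p` (helper746, TEAM ODDM)
-/

set_option autoImplicit false

namespace Cfsg.Agent.H746.OddM.Three

open Cfsg Cfsg.Geo Matrix
open scoped MatrixGroups

variable {F : Type*} [Field F]

local notation "V3" => Fin 3 → F
local notation "M3" => Matrix (Fin 3) (Fin 3) F

theorem IsTv.ne_scalar {A : M3} (h : IsTv A) (c : F) : A ≠ c • (1 : M3) := by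
  obtain ⟨φ, a, h1, hφ, ha, rfl⟩ := h
  intro h2
  obtain ⟨j, hj⟩ : ∃ j, φ j ≠ 0 := by
    by_contra hcon
    push Not at hcon
    exact hφ (funext hcon)
  have h3 := congrArg (fun M : M3 => M *ᵥ a) h2
  simp only [tv_mulVec, h1, zero_smul, add_zero, Matrix.smul_mulVec, Matrix.one_mulVec] at h3
  have hc : c = 1 := by
    by_contra hc
    have : (1 - c) • a = 0 := by rw [sub_smul, one_smul, ← h3, sub_self]
    rcases smul_eq_zero.1 this with h4 | h4
    · exact hc (sub_eq_zero.1 h4).symm
    · exact ha h4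
  have h4 := congrArg (fun M : M3 => M *ᵥ (Pi.single j 1)) h2
  simp only [tv_mulVec, hc, one_smul, Matrix.one_mulVec, dotProduct_single_one] at h4
  have h5 : φ j • a = 0 := by simpa using h4
  rcases smul_eq_zero.1 h5 with h6 | h6
  · exact hj h6
  · exact ha h6

section char

variable {p : ℕ} [hp : Fact p.Prime] [hcp : CharP F p]

include hp hcp in
theorem pow_char_of {A : M3} (h : (A - 1) ^ 3 = 0) (hp3 : 3 ≤ p) : A ^ p = 1 := by
  have h1 : (A - 1) ^ p = A ^ p - 1 := by
    have := sub_pow_char_of_commute (p := p) (Commute.one_right A)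
    rwa [one_pow] at this
  have h2 : (A - 1) ^ p = 0 := by
    obtain ⟨k, rfl⟩ := Nat.exists_eq_add_of_le hp3
    rw [pow_add, h, zero_mul]
  rw [h2] at h1
  exact (sub_eq_zero.1 h1.symm)

theorem IsTv.cube {A : M3} (h : IsTv A) : (A - 1) ^ 3 = 0 := by
  rw [pow_succ, h.sq, zero_mul]

include hp hcp in
theorem IsTv.orderOf (hp3 : 3 ≤ p) {A : GL (Fin 3) F} (h : IsTv (A : M3)) : orderOf A = p := by
  apply orderOf_eq_prime
  · apply Units.ext
    rw [Units.val_pow_eq_pow_val, Units.val_one]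
    exact pow_char_of (p := p) h.cube hp3
  · intro h1
    exact h.ne_scalar 1 (by rw [h1, Units.val_one, one_smul])

include hp hcp in
theorem IsRu.orderOf (hp3 : 3 ≤ p) {A : GL (Fin 3) F} (h : IsRu (A : M3)) : orderOf A = p := by
  apply orderOf_eq_prime
  · apply Units.ext
    rw [Units.val_pow_eq_pow_val, Units.val_one]
    exact pow_char_of (p := p) h.1 hp3
  · intro h1
    apply h.2
    rw [h1, Units.val_one, sub_self, zero_pow two_ne_zero]

include hp hcp in
/-- a group with cyclic Sylow `p`-subgroups of order `p` does not contain both kinds of elements -/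
theorem no_tv_ru [Finite F] (hp3 : 3 ≤ p) {H : Subgroup (GL (Fin 3) F)} (h2 : ¬ p ^ 2 ∣ Nat.card H)
    {t u : GL (Fin 3) F} (ht : t ∈ H) (hu : u ∈ H) (hT : IsTv (t : M3)) (hU : IsRu (u : M3)) : False := by
  classical
  have hfin : Finite (GL (Fin 3) F) := inferInstance
  let t' : H := ⟨t, ht⟩
  let u' : H := ⟨u, hu⟩
  have hot : _root_.orderOf t' = p := by rw [← Subgroup.orderOf_coe]; exact hT.orderOf hp3
  have hou : _root_.orderOf u' = p := by rw [← Subgroup.orderOf_coe]; exact hU.orderOf hp3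
  have hd : p ∣ Nat.card H := by rw [← hot]; exact orderOf_dvd_natCard _
  have hf : (Nat.card H).factorization p = 1 := by
    have h3 : 1 ≤ (Nat.card H).factorization p :=
      (hp.out.dvd_iff_one_le_factorization Nat.card_pos.ne').1 hd
    have h4 : ¬ 2 ≤ (Nat.card H).factorization p := fun h =>
      h2 ((hp.out.pow_dvd_iff_le_factorization Nat.card_pos.ne').2 h)
    omega
  let P : Sylow p H := Sylow.ofCard (Subgroup.zpowers t') (by rw [Nat.card_zpowers, hot, hf, pow_one])
  let Q : Sylow p H := Sylow.ofCard (Subgroup.zpowers u') (by rw [Nat.card_zpowers, hou, hf, pow_one])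
  obtain ⟨g, hg⟩ := MulAction.exists_smul_eq H P Q
  have h3 : u' ∈ (Q : Subgroup H) := Subgroup.mem_zpowers u'
  rw [← hg, Sylow.coe_subgroup_smul, Subgroup.mem_smul_pointwise_iff_exists] at h3
  obtain ⟨s, hs, hsu⟩ := h3
  have hs' : s ∈ Subgroup.zpowers t' := hs
  rw [mem_zpowers_iff_mem_range_orderOf, Finset.mem_image] at hs'
  obtain ⟨k, -, hk⟩ := hs'
  have h4 : g * t' ^ k * g⁻¹ = u' := by rw [hk]; exact hsu
  have h5 : (u : M3) = ((g : GL (Fin 3) F) : M3) * (t : M3) ^ k * (((g : GL (Fin 3) F)⁻¹ : GL (Fin 3) F) : M3) := by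
    have h6 : (g : GL (Fin 3) F) * t ^ k * (g : GL (Fin 3) F)⁻¹ = u := congrArg Subtype.val h4
    rw [← h6, Units.val_mul, Units.val_mul, Units.val_pow_eq_pow_val]
  apply hU.2
  rw [h5, sub_one_conj, sq_pow hT.sq, Matrix.mul_zero, Matrix.zero_mul]

end char

end Cfsg.Agent.H746.OddM.Three
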