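import Cfsg.Agent.H746.OddM.ThreeUEl
import Cfsg.Agent.H746.OddM.ThreeChar
import Cfsg.Agent.H453.OddM.Asm
import Cfsg.Agent.H947.El.PsuC
import Cfsg.Agent.H304.ExtInv

/-!
# S4785, the groups `PSU_3(q)`, `q` odd (helper746, TEAM ODDM)
-/

set_option autoImplicit false

namespace Cfsg.Agent.H746.OddM.ThreeU

open Cfsg Cfsg.Geo Matrix Cfsg.Agent.LieClassical.HermBasic Cfsg.Agent.LieClassical.HermSiegel
  Cfsg.Agent.H746.OddM.Three Cfsg.Agent.H453.OddM Cfsg.Agent.H918
open scoped MatrixGroups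

variable {F : Type*} [Field F] [Fintype F] {q : ℕ}

local notation "V3" => Fin 3 → F
local notation "M3" => Matrix (Fin 3) (Fin 3) F

/-- **a unitary transvection is in no real subfield group** -/
theorem not_orth (hF : Fintype.card F = q ^ 2) (h2 : (2 : F) ≠ 0) {F₀ : Subfield F} {P : GL (Fin 3) F}
    (hc : Fintype.card F = Nat.card F₀ ^ 2) (hP : IsFormRationalStructure (hermForm 3 F q) F₀ 1 P)
    {A : GL (Fin 3) F} (hAU : A ∈ GU 3 F q) (hA : IsTv (A : M3)) : A ∉ subfieldSubgroup F₀ P := by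
  classical
  intro hmem
  obtain ⟨c, hc0, hB⟩ := Cfsg.Agent.H914.mem_subfieldSubgroup_iff.1 hmem
  have hq0 : q ≠ 0 := (q_pos hF).ne'
  have hcard : Nat.card F₀ = q := by
    have : Nat.card F₀ ^ 2 = q ^ 2 := by rw [← hc, hF]
    exact Nat.pow_left_injective two_ne_zero this
  have hfix : ∀ x ∈ F₀, x ^ q = x := by
    intro x hx
    have : Fintype F₀ := Fintype.ofFinite F₀
    have h1 := FiniteField.pow_card (⟨x, hx⟩ : F₀)
    rw [← Nat.card_eq_fintype_card, hcard] at h1
    exact congrArg Subtype.val h1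
  have hPP : (P : M3) * ((P⁻¹ : GL (Fin 3) F) : M3) = 1 := by rw [← Units.val_mul, mul_inv_cancel, Units.val_one]
  have hPP' : ((P⁻¹ : GL (Fin 3) F) : M3) * (P : M3) = 1 := by rw [← Units.val_mul, inv_mul_cancel, Units.val_one]
  set A' : M3 := ((P⁻¹ * A * P : GL (Fin 3) F) : M3) with hA'
  have hPA : (P : M3) * A' = (A : M3) * (P : M3) := by
    rw [hA', Units.val_mul, Units.val_mul, ← Matrix.mul_assoc, ← Matrix.mul_assoc, hPP, Matrix.one_mul]
  have hA'tv : IsTv A' := by
    have := hA.conj P⁻¹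
    rw [inv_inv] at this
    rw [hA', Units.val_mul, Units.val_mul]
    exact this
  set κ : F := c / c ^ q with hκ
  have hpow : ∀ i j, A' i j ^ q = κ * A' i j := by
    intro i j
    have h1 := hfix _ (hB i j)
    rw [mul_pow] at h1
    rw [hκ, div_mul_eq_mul_div, eq_div_iff (pow_ne_zero _ hc0), ← h1]
    ring
  -- the symmetric form
  let fr : V3 → V3 := fun y i => y i ^ q
  let B : V3 → V3 → F := fun x y => hermForm 3 F q ((P : M3) *ᵥ x) ((P : M3) *ᵥ fr y)
  have hfradd : ∀ x y, fr (x + y) = fr x + fr y := by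
    intro x y
    ext i
    exact add_pow_q hF _ _
  have hfrsm : ∀ (a : F) x, fr (a • x) = (a ^ q) • fr x := by
    intro a x
    ext i
    simp [fr, mul_pow]
  have hBb : IsBilinearForm B := by
    refine ⟨fun x y v => ?_, fun a x v => ?_, fun v x y => ?_, fun a v x => ?_⟩
    · simp only [B, Matrix.mulVec_add, herm_add_left]
    · simp only [B, Matrix.mulVec_smul, herm_smul_left]
    · simp only [B, hfradd, Matrix.mulVec_add, herm_add_right hF]
    · simp only [B, hfrsm, Matrix.mulVec_smul, herm_smul_right, pow_q_pow_q hF]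
  have hfrs : ∀ i : Fin 3, fr (Pi.single i 1) = Pi.single i 1 := by
    intro i
    ext j
    by_cases hj : j = i
    · subst hj; simp [fr]
    · simp [fr, hj, hq0]
  have hBs : ∀ i j : Fin 3, B (Pi.single i 1) (Pi.single j 1) = B (Pi.single j 1) (Pi.single i 1) := by
    intro i j
    simp only [B, hfrs]
    rw [herm_swap hF]
    apply hfix
    have := hP (Pi.single j 1) (Pi.single i 1) ?_ ?_
    · rwa [one_mul] at this
    · intro k
      by_cases hk : k = j
      · subst hk; rw [Pi.single_eq_same]; exact one_mem _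
      · rw [Pi.single_eq_of_ne hk]; exact zero_mem _
    · intro k
      by_cases hk : k = i
      · subst hk; rw [Pi.single_eq_same]; exact one_mem _
      · rw [Pi.single_eq_of_ne hk]; exact zero_mem _
  have hexp : ∀ x : V3, x = x 0 • Pi.single 0 1 + x 1 • Pi.single 1 1 + x 2 • Pi.single 2 1 := by
    intro x
    ext i
    fin_cases i <;> simp
  have hsymm : ∀ x y, B x y = B y x := by
    intro x y
    have h01 := hBs 0 1
    have h02 := hBs 0 2
    have h12 := hBs 1 2
    rw [hexp x, hexp y]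
    simp only [hBb.add_left, hBb.add_right, hBb.smul_left, hBb.smul_right, h01, h02, h12]
    ring
  have hnd : IsNondegenerateForm B := by
    have h1 : ∀ v : V3, v ≠ 0 → ∃ x, B v x ≠ 0 := by
      intro v hv
      obtain ⟨z, hz⟩ := exists_herm_ne_zero hF (conj_ne_zero hPP' hv)
      refine ⟨fun i => (((P⁻¹ : GL (Fin 3) F) : M3) *ᵥ z) i ^ q, ?_⟩
      have h2 : fr (fun i => (((P⁻¹ : GL (Fin 3) F) : M3) *ᵥ z) i ^ q) = ((P⁻¹ : GL (Fin 3) F) : M3) *ᵥ z := by
        ext i
        exact pow_q_pow_q hF _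
      simp only [B, h2, Matrix.mulVec_mulVec, hPP, Matrix.one_mulVec]
      exact hz
    intro v hv
    obtain ⟨x, hx⟩ := h1 v hv
    exact ⟨⟨x, by rw [hsymm]; exact hx⟩, ⟨x, hx⟩⟩
  refine hA'tv.not_form h2 hBb hsymm hnd (c := κ ^ q) ?_
  intro x y
  have h1 : fr (A' *ᵥ y) = κ • (A' *ᵥ fr y) := by
    ext i
    simp only [fr, Matrix.mulVec, dotProduct, Fin.sum_univ_three, Pi.smul_apply, smul_eq_mul, add_pow_q hF, mul_pow,
      hpow]
    ring
  simp only [B, h1, Matrix.mulVec_smul, herm_smul_right, Matrix.mulVec_mulVec, hPA]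
  rw [← Matrix.mulVec_mulVec, ← Matrix.mulVec_mulVec, mem_GU.1 hAU]

omit [Fintype F] in
/-- the real classes meet `M` -/
theorem lift {M : Subgroup (PSU 3 F q)} (hM : Cov (PSU 3 F q) M) {X : SU 3 F q} (hX : IsReal X) :
    ∃ Y : SU 3 F q, suHom 3 F q (Y * X * Y⁻¹) ∈
      (M.comap (QuotientGroup.mk' (Subgroup.center (Cfsg.SU 3 F q)))).map (suHom 3 F q) := by
  obtain ⟨g, hg⟩ := hM.2 _ (hX.map (QuotientGroup.mk' (Subgroup.center (Cfsg.SU 3 F q))))
  obtain ⟨Y, rfl⟩ := QuotientGroup.mk'_surjective _ g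
  refine ⟨Y, Subgroup.mem_map_of_mem _ ?_⟩
  rw [Subgroup.mem_comap, map_mul, map_mul, map_inv]
  exact hg

omit [Fintype F] in
theorem coe_conj (X Y : SU 3 F q) : ((suHom 3 F q (Y * X * Y⁻¹) : GL (Fin 3) F) : M3) =
    ((suHom 3 F q Y : GL (Fin 3) F) : M3) * mat X * (((suHom 3 F q Y)⁻¹ : GL (Fin 3) F) : M3) := by
  rw [map_mul, map_mul, map_inv, Units.val_mul, Units.val_mul]
  rfl

omit [Fintype F] in
theorem act_conj (X Y : SU 3 F q) (v : V3) :
    ((suHom 3 F q (Y * X * Y⁻¹) : GL (Fin 3) F) : M3) *ᵥ (act Y v) = act Y (act X v) := by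
  have : ((suHom 3 F q (Y * X * Y⁻¹) : GL (Fin 3) F) : M3) *ᵥ (act Y v) = act (Y * X * Y⁻¹) (act Y v) := rfl
  rw [this, act_mul, act_inv_act, act_mul]

/-- **totally singular subspaces** -/
theorem case_sing (hF : Fintype.card F = q ^ 2) {lam : Fˣ} (h3 : 2 < orderOf lam)
    {X Y : SU 3 F q} (hX : mat X = Matrix.diagonal ![1, (lam : F), (lam : F)⁻¹]) {W : Submodule F V3} (hW : W ≠ ⊥)
    (hs : IsTotallySingularFor (hermForm 3 F q) W) (h : suHom 3 F q (Y * X * Y⁻¹) ∈ subspaceStabilizer W) : False := by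
  have hinv : ∀ v, act Y v ∈ W → act Y (act X v) ∈ W := by
    intro v hv
    rw [← act_conj]
    exact (h (act Y v)).1 hv
  have hX' : ∀ v : V3, act X v = ![v 0, lam * v 1, (lam : F)⁻¹ * v 2] := by
    intro v
    rw [act_def, hX]
    ext i
    fin_cases i <;> simp [Matrix.mulVec_diagonal]
  have hl0 : (lam : F) ≠ 0 := lam.ne_zero
  have hl1 : (lam : F) ≠ 1 := by
    intro h1
    have : lam = 1 := Units.ext h1
    rw [this, orderOf_one] at h3
    omega
  have hl2 : (lam : F) ^ 2 ≠ 1 := by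
    intro h1
    have : lam ^ 2 = 1 := Units.ext (by simpa using h1)
    have := Nat.le_of_dvd two_pos (orderOf_dvd_of_pow_eq_one this)
    omega
  -- coordinate vectors
  have hz : ∀ (i : Fin 3) (a : F), act Y (Pi.single i a) ∈ W → a = 0 := by
    intro i a ha
    have h1 := hs _ ha _ ha
    rw [herm_act, herm_single_left, Pi.single_eq_same] at h1
    exact (norm_eq_zero hF).1 h1
  obtain ⟨w, hw, hw0⟩ := (Submodule.ne_bot_iff W).1 hW
  set v := act Y⁻¹ w with hv
  have hvW : act Y v ∈ W := by rw [hv, act_act_inv]; exact hw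
  have h1 := hinv v hvW
  have h2 := hinv _ h1
  have key : ∀ a b : F, act Y (act X (act X v) + a • act X v + b • v) ∈ W := by
    intro a b
    rw [act_add, act_add, act_smul, act_smul]
    exact W.add_mem (W.add_mem h2 (W.smul_mem _ h1)) (W.smul_mem _ hvW)
  apply hw0
  have hv0 : v = 0 := by
    ext i
    fin_cases i
    · have h4 := key (-((lam : F) + (lam : F)⁻¹)) 1
      have h5 : act X (act X v) + (-((lam : F) + (lam : F)⁻¹)) • act X v + (1 : F) • v =
          Pi.single 0 ((1 - (lam : F)) * (1 - (lam : F)⁻¹) * v 0) := by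
        rw [hX', hX']
        ext i
        fin_cases i <;> simp <;> field_simp <;> ring
      rw [h5] at h4
      have h6 := hz _ _ h4
      have h7 : (1 - (lam : F)) * (1 - (lam : F)⁻¹) ≠ 0 :=
        mul_ne_zero (sub_ne_zero.2 hl1.symm) (sub_ne_zero.2 fun h => hl1 (inv_eq_one.1 h.symm))
      exact (mul_eq_zero.1 h6).resolve_left h7
    · have h4 := key (-(1 + (lam : F)⁻¹)) (lam : F)⁻¹
      have h5 : act X (act X v) + (-(1 + (lam : F)⁻¹)) • act X v + ((lam : F)⁻¹) • v =
          Pi.single 1 (((lam : F) - 1) * ((lam : F) - (lam : F)⁻¹) * v 1) := by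
        rw [hX', hX']
        ext i
        fin_cases i <;> simp <;> field_simp <;> ring
      rw [h5] at h4
      have h6 := hz _ _ h4
      have h7 : ((lam : F) - 1) * ((lam : F) - (lam : F)⁻¹) ≠ 0 := by
        refine mul_ne_zero (sub_ne_zero.2 hl1) (sub_ne_zero.2 fun h => hl2 ?_)
        rw [pow_two]; nth_rewrite 2 [h]; exact mul_inv_cancel₀ hl0
      exact (mul_eq_zero.1 h6).resolve_left h7
    · have h4 := key (-(1 + (lam : F))) (lam : F)
      have h5 : act X (act X v) + (-(1 + (lam : F))) • act X v + ((lam : F)) • v =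
          Pi.single 2 (((lam : F)⁻¹ - 1) * ((lam : F)⁻¹ - (lam : F)) * v 2) := by
        rw [hX', hX']
        ext i
        fin_cases i <;> simp <;> field_simp <;> ring
      rw [h5] at h4
      have h6 := hz _ _ h4
      have h7 : ((lam : F)⁻¹ - 1) * ((lam : F)⁻¹ - (lam : F)) ≠ 0 := by
        refine mul_ne_zero (sub_ne_zero.2 fun h => hl1 (inv_eq_one.1 h)) (sub_ne_zero.2 fun h => hl2 ?_)
        rw [pow_two]; nth_rewrite 2 [← h]; exact mul_inv_cancel₀ hl0
      exact (mul_eq_zero.1 h6).resolve_left h7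
  rw [← act_act_inv Y w, ← hv, hv0, act_zero]

omit [Fintype F] in
/-- **nonsingular points** -/
theorem case_nonsing {X Y : SU 3 F q} (hX : Three.IsRu (mat X))
    (hfix : ∀ v, act X v = v → hermForm 3 F q v v = 0) {W : Submodule F V3} (hW : W ≠ ⊥)
    (hn : IsNondegenerateOn (hermForm 3 F q) W) (hd : 2 * Module.finrank F W < 3)
    (h : suHom 3 F q (Y * X * Y⁻¹) ∈ subspaceStabilizer W) : False := by
  have h1 : Module.finrank F W = 1 := by
    have : 0 < Module.finrank F W := Nat.pos_of_ne_zero fun h => hW (Submodule.finrank_eq_zero.mp h)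
    omega
  obtain ⟨⟨w, hw⟩, hw0, hs⟩ := finrank_eq_one_iff'.1 h1
  have hw0' : w ≠ 0 := fun h => hw0 (Subtype.ext h)
  set v := act Y⁻¹ w with hv
  have hvw : act Y v = w := by rw [hv, act_act_inv]
  have hmem : act Y (act X v) ∈ W := by
    rw [← act_conj, hvw]
    exact (h w).1 hw
  obtain ⟨μ, hμ⟩ := hs ⟨_, hmem⟩
  have hμ' : μ • w = act Y (act X v) := congrArg Subtype.val hμ
  have hXv : act X v = μ • v := by
    rw [← act_inv_act Y (act X v), ← hμ', act_smul]
  have hv0 : v ≠ 0 := by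
    intro h0
    rw [h0, act_zero] at hvw
    exact hw0' hvw.symm
  have hN : (mat X - 1) *ᵥ v = (μ - 1) • v := by
    rw [Matrix.sub_mulVec, Matrix.one_mulVec, ← act_def, hXv, sub_smul, one_smul]
  have hN3 : (mat X - 1) ^ 3 *ᵥ v = ((μ - 1) ^ 3) • v := by
    rw [pow_succ, pow_two, ← Matrix.mulVec_mulVec, ← Matrix.mulVec_mulVec, hN, Matrix.mulVec_smul, hN,
      Matrix.mulVec_smul, Matrix.mulVec_smul, hN, smul_smul, smul_smul]
    congr 1
    ring
  rw [hX.1, Matrix.zero_mulVec] at hN3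
  have h2 : μ = 1 := by
    have := (smul_eq_zero.1 hN3.symm).resolve_right hv0
    exact sub_eq_zero.1 (pow_eq_zero_iff (three_ne_zero) |>.1 this)
  rw [h2, one_smul] at hXv
  have h3 := hfix v hXv
  rw [← herm_act Y, hvw] at h3
  obtain ⟨⟨x, hx, hx0⟩, -⟩ := hn w hw hw0'
  obtain ⟨c, hc⟩ := hs ⟨x, hx⟩
  have hc' : c • w = x := congrArg Subtype.val hc
  rw [← hc', herm_smul_left, h3, mul_zero] at hx0
  exact hx0 rfl

/-- **subfields of index at least three** -/
theorem case_subfield (hF : Fintype.card F = q ^ 2) (hq : 3 ≤ q) {lam : Fˣ} (hlam : orderOf lam = q + 1)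
    {A : GL (Fin 3) F} (hA : IsEg (lam : F) (A : M3)) {F₀ : Subfield F} {r : ℕ} (hr : 3 ≤ r)
    (hc : Fintype.card F = Nat.card F₀ ^ r) {P : GL (Fin 3) F} : A ∉ subfieldSubgroup F₀ P := by
  classical
  intro hmem
  have hl0 : (lam : F) ≠ 0 := lam.ne_zero
  have h1 : ∀ k : ℕ, 0 < k → k < q + 1 → (lam : F) ^ k ≠ 1 := by
    intro k hk hk2 h
    have : lam ^ k = 1 := Units.ext (by simpa using h)
    have h2 := Nat.le_of_dvd hk (orderOf_dvd_of_pow_eq_one this)
    omega
  rcases hA.subfield hl0 hmem with h | h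
  · apply h1 3 (by norm_num) (by omega)
    have h2 : (lam : F) * (1 + lam + (lam : F)⁻¹) = 0 := by rw [h, mul_zero]
    have h3 : (lam : F) * (lam : F)⁻¹ = 1 := mul_inv_cancel₀ hl0
    linear_combination ((lam : F) - 1) * h2 - ((lam : F) - 1) * h3
  · -- `lam ^ Q = lam ^ ± 1`, `Q = |F₀|`
    set Q := Nat.card F₀ with hQ
    have hQ2 : 2 ≤ Q := Finite.one_lt_card
    have : Fintype F₀ := Fintype.ofFinite F₀
    have h2 : ((lam : F) + (lam : F)⁻¹) ^ Q = (lam : F) + (lam : F)⁻¹ := by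
      have h3 := FiniteField.pow_card (⟨_, h⟩ : F₀)
      rw [← Nat.card_eq_fintype_card] at h3
      exact congrArg Subtype.val h3
    -- additivity of the `Q`-power
    have h3 : ((lam : F) + (lam : F)⁻¹) ^ Q = (lam : F) ^ Q + ((lam : F)⁻¹) ^ Q := by
      obtain ⟨p, hcp⟩ := CharP.exists F₀
      have hp : Fact p.Prime := ⟨CharP.char_is_prime F₀ p⟩
      obtain ⟨n, -, hn⟩ := FiniteField.card F₀ p
      have : CharP F p := by
        exact charP_of_injective_algebraMap (algebraMap F₀ F).injective p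
      rw [hQ, Nat.card_eq_fintype_card, hn]
      exact add_pow_char_pow (R := F) (lam : F) (lam : F)⁻¹ p n
    rw [h3] at h2
    have h4 : ((lam : F) ^ (Q - 1) - 1) * ((lam : F) ^ (Q + 1) - 1) = 0 := by
      obtain ⟨k, hk⟩ : ∃ k, Q = k + 1 := ⟨Q - 1, by omega⟩
      rw [hk] at h2 ⊢
      rw [Nat.add_sub_cancel]
      have h5 : ((lam : F)⁻¹) ^ (k + 1) * (lam : F) ^ (k + 1) = 1 := by rw [← mul_pow, inv_mul_cancel₀ hl0, one_pow]
      have h6 : (lam : F) * (lam : F)⁻¹ = 1 := mul_inv_cancel₀ hl0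
      have h7 : (lam : F) ^ (k + 1) = lam ^ k * lam := pow_succ _ _
      have h8 : (lam : F) ^ (k + 1 + 1) = lam ^ k * lam * lam := by rw [pow_succ, pow_succ]
      rw [h7] at h2 h5
      rw [h8]
      linear_combination ((lam : F) ^ k * lam) * h2 - h5 + (lam : F) ^ k * h6
    have hlt : Q + 1 < q + 1 := by
      have h5 : q ^ 2 = Q ^ r := by rw [← hF, hc]
      have h6 : Q ^ 3 ≤ Q ^ r := Nat.pow_le_pow_right (by omega) hr
      have h7 : Q ^ 2 < q ^ 2 := by
        rw [h5]
        refine lt_of_lt_of_le ?_ h6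
        exact Nat.pow_lt_pow_right (by omega) (by norm_num)
      have := lt_of_pow_lt_pow_left₀ 2 (by omega) h7
      omega
    rcases mul_eq_zero.1 h4 with h5 | h5
    · exact h1 (Q - 1) (by omega) (by omega) (sub_eq_zero.1 h5)
    · exact h1 (Q + 1) (by omega) hlt (sub_eq_zero.1 h5)

/-- **no maximal subgroup of odd index meets all real classes** -/
theorem rowC (hF : Fintype.card F = q ^ 2) (hodd : Odd q) (hq : 3 ≤ q) : RowC (PSU 3 F q) := by
  classical
  intro M hM hcov
  have hfin : Finite (PSU 3 F q) := Quotient.finite _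
  obtain ⟨p, hcp⟩ := CharP.exists F
  have hp : Fact p.Prime := ⟨CharP.char_is_prime F p⟩
  have hcp' := hcp
  -- the characteristic is odd
  obtain ⟨n, -, hn⟩ := FiniteField.card F p
  have hpq : p ∣ q := by
    have : p ∣ q ^ 2 := by rw [← hF, hn]; exact dvd_pow_self p n.2.ne'
    exact hp.out.dvd_of_dvd_pow this
  have hp3 : 3 ≤ p := by
    have h1 := hp.out.two_le
    rcases Nat.lt_or_ge p 3 with h | h
    · have : p = 2 := by omega
      rw [this] at hpq
      exact absurd hodd (Nat.not_odd_iff_even.2 (even_iff_two_dvd.2 hpq))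
    · exact h
  have h2 : (2 : F) ≠ 0 := by
    intro h
    have h1 : p ∣ 2 := (CharP.cast_eq_zero_iff F p 2).1 (by exact_mod_cast h)
    have := Nat.le_of_dvd two_pos h1
    omega
  set H := (M.comap (QuotientGroup.mk' (Subgroup.center (Cfsg.SU 3 F q)))).map (suHom 3 F q) with hHd
  have hH : IsMaximalIn (SUg 3 F q) H := by
    have := Cfsg.Agent.H947.El.isMaximalIn_of_coatom _ (QuotientGroup.mk'_surjective _) (suHom 3 F q)
      suHom_injective hM
    rwa [range_suHom] at this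
  have hMH : Nat.card M ∣ Nat.card H := by
    have h1 : (M.comap (QuotientGroup.mk' (Subgroup.center (Cfsg.SU 3 F q)))).map
        (QuotientGroup.mk' (Subgroup.center (Cfsg.SU 3 F q))) = M :=
      Subgroup.map_comap_eq_self_of_surjective (QuotientGroup.mk'_surjective _) M
    have h2 : Nat.card ((M.comap (QuotientGroup.mk' (Subgroup.center (Cfsg.SU 3 F q)))).map
        (QuotientGroup.mk' (Subgroup.center (Cfsg.SU 3 F q)))) ∣
        Nat.card (M.comap (QuotientGroup.mk' (Subgroup.center (Cfsg.SU 3 F q)))) := Subgroup.card_map_dvd _ _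
    rw [h1] at h2
    exact h2.trans (dvd_of_eq (Subgroup.card_map_of_injective suHom_injective).symm)
  -- the order of the group
  have hcard := Cfsg.Agent.H394.SqPsu3.card_psu3 hF
  -- elements
  obtain ⟨t₀, ht₀, ht₁⟩ := exists_tv hF hodd
  obtain ⟨u₀, hu₀, hu₁, hu₂⟩ := exists_ru hF hodd h2
  obtain ⟨lam, x₀, hlam, hx₀, hx₁⟩ := exists_eg hF hodd
  obtain ⟨Yt, hYt⟩ := lift hcov ht₀
  obtain ⟨Yu, hYu⟩ := lift hcov hu₀
  obtain ⟨Yx, hYx⟩ := lift hcov hx₀
  rw [← hHd] at hYt hYu hYx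
  set t : GL (Fin 3) F := suHom 3 F q (Yt * t₀ * Yt⁻¹) with htd
  set u : GL (Fin 3) F := suHom 3 F q (Yu * u₀ * Yu⁻¹) with hud
  set x : GL (Fin 3) F := suHom 3 F q (Yx * x₀ * Yx⁻¹) with hxd
  have htT : IsTv (t : M3) := by rw [htd, coe_conj]; exact ht₁.conj _
  have huU : Three.IsRu (u : M3) := by rw [hud, coe_conj]; exact hu₁.conj _
  have hxE : IsEg (lam : F) (x : M3) := by
    rw [hxd, coe_conj, hx₁]
    exact ⟨_, rfl⟩
  have hto : orderOf t = p := htT.orderOf hp3
  have hpH : p ∣ Nat.card H := by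
    rw [← hto, ← Subgroup.orderOf_mk t hYt]
    exact orderOf_dvd_natCard _
  rcases Cfsg.Agent.S5778.result q hF hq H hH with ⟨W, hW0, hWs, he⟩ | ⟨W, hW0, hWn, hW3, he⟩ | ⟨-, D, hD, he⟩ |
    ⟨-, -, K, hK, -, he⟩ | ⟨F₀, l, P, hl, hlo, hc, -, he⟩ | ⟨-, -, F₀, P, hc, hfr, he⟩ |
    ⟨p', R, hp', hqp', -, h11, -, hirr, -, h27, h3, he⟩ | hres
  · rw [he] at hYx
    exact case_sing hF (by omega) hx₁ hW0 hWs hYx.1
  · rw [he] at hYu
    exact case_nonsing hu₁ hu₂ hW0 hWn hW3 hYu.1
  · rw [he] at hYt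
    exact htT.not_decomp h2 hD.decomp hYt.1
  · -- involutions
    have h2T : 2 ∣ Nat.card (PSU 3 F q) := by
      have h4 : 2 ∣ Nat.gcd 3 (q + 1) * Nat.card (PSU 3 F q) := by
        rw [hcard]
        refine Dvd.dvd.mul_left (Dvd.dvd.mul_left ?_ _) _
        obtain ⟨k, hk⟩ := hodd.pow (n := 3)
        exact ⟨k + 1, by omega⟩
      refine (Nat.prime_two.dvd_mul.1 h4).resolve_left fun h5 => ?_
      have := h5.trans (Nat.gcd_dvd_left 3 (q + 1))
      revert this; decide
    have h2M : 2 ∣ Nat.card M := by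
      have := (hcov.two_part (k := 1)).1 (by rw [pow_one]; exact h2T)
      rwa [pow_one] at this
    obtain ⟨z, hz⟩ := exists_prime_orderOf_dvd_card' (G := H) 2 (h2M.trans hMH)
    have hz' : orderOf (z : GL (Fin 3) F) = 2 := by rw [Subgroup.orderOf_coe, hz]
    have hzH : (z : GL (Fin 3) F) ∈ subalgebraNormalizer K ⊓ (GU 3 F q ⊓ specialLinear (Fin 3) F) := he.le z.2
    exact Cfsg.Agent.H304.ExtInv.no_involution (by decide) hK hz' hzH.1 hzH.2.2
  · rw [he] at hYx
    have hl3 : 3 ≤ l := by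
      have := hl.two_le
      rcases Nat.lt_or_ge l 3 with h | h
      · have : l = 2 := by omega
        rw [this] at hlo
        exact absurd hlo (by decide)
      · exact h
    exact case_subfield hF hq hlam hxE hl3 hc hYx.1
  · rw [he] at hYt
    exact not_orth hF h2 hc hfr hYt.2.1 htT hYt.1
  · rw [he] at hYt
    have hpp : p = q := by
      rw [hqp'] at hpq ⊢
      exact (Nat.prime_dvd_prime_iff_eq hp.out hp').1 hpq
    obtain ⟨c, hc⟩ := Cfsg.Agent.H907.Mx.symp_prime hirr h27 h3 hYt.1 hp.out (by omega)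
      (by rw [← hto]; exact pow_orderOf_eq_one t)
    exact htT.ne_scalar c hc
  · -- residual
    obtain ⟨P, hP, hqp, hcases⟩ := Cfsg.Agent.S5779.result q hF hq H hH hres
    have hHS : H ≤ SUg 3 F q := hH.1.le
    have hpp : p = q := (Nat.prime_dvd_prime_iff_eq hp.out hqp).1 hpq
    rcases hcases with ⟨⟨e⟩, hq5, hq7⟩ | ⟨⟨e⟩, hq15⟩ | ⟨⟨e⟩, hq5⟩
    · have h1008 : Nat.card H ∣ 1008 := Cfsg.Agent.H907.Mx.card_dvd_l32 hP hHS ⟨e⟩
      have h1 : q ∣ 2 ^ 4 * 3 ^ 2 * 7 := by
        rw [← hpp]; norm_num; exact hpH.trans h1008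
      have hq3 : q = 3 := by
        rcases hqp.dvd_mul.1 h1 with h3 | h3
        · rcases hqp.dvd_mul.1 h3 with h4 | h4
          · have := Nat.le_of_dvd (by norm_num) (hqp.dvd_of_dvd_pow h4); omega
          · have := Nat.le_of_dvd (by norm_num) (hqp.dvd_of_dvd_pow h4); omega
        · have := (Nat.prime_dvd_prime_iff_eq hqp (by norm_num)).1 h3
          omega
      subst hq3
      have hc3 : Nat.card (PSU 3 F 3) = 6048 := by
        generalize Nat.card (PSU 3 F 3) = N at hcard ⊢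
        norm_num at hcard
        exact hcard
      have h32 : 2 ^ 5 ∣ Nat.card M := (hcov.two_part (k := 5)).1 (by rw [hc3]; norm_num)
      have := (h32.trans hMH).trans h1008
      revert this; norm_num
    · have h4320 : Nat.card H ∣ 4320 := Cfsg.Agent.H907.Mx.card_dvd_a6 hP hHS ⟨e⟩
      by_cases hq5 : q = 5
      · refine no_tv_ru (p := p) hp3 (H := H) (fun h => ?_) hYt hYu htT huU
        have := h.trans h4320
        rw [hpp, hq5] at this
        revert this; norm_num
      · have h1 : q ∣ 2 ^ 5 * 3 ^ 3 * 5 := by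
          rw [← hpp]; norm_num; exact hpH.trans h4320
        rcases hqp.dvd_mul.1 h1 with h3 | h3
        · rcases hqp.dvd_mul.1 h3 with h4 | h4
          · have := Nat.le_of_dvd (by norm_num) (hqp.dvd_of_dvd_pow h4); omega
          · have := Nat.le_of_dvd (by norm_num) (hqp.dvd_of_dvd_pow h4); omega
        · have := Nat.le_of_dvd (by norm_num) h3; omega
    · refine no_tv_ru (p := p) hp3 (H := H) (fun h => ?_) hYt hYu htT huU
      have hdvdH := Cfsg.Agent.H907.Mx.card_dvd hP hHS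
      rw [Nat.card_congr (MulAut.congr e).toEquiv] at hdvdH
      have h4 := h.trans (hdvdH.trans (Nat.mul_dvd_mul_left 3 Cfsg.Agent.H947.El.card_aut_a7))
      rw [hpp, hq5] at h4
      revert h4; norm_num

universe u

/-- **C10b, unitary** -/
theorem row_psu_three (q : ℕ) (hq : ¬ 2 ∣ q) : RowN.{u} (.psu 3 q) := by
  intro T _ _ _ hT
  obtain ⟨F, _, _, hF, ⟨e⟩⟩ := hT.real
  obtain ⟨-, h3, hpp⟩ := hT.cond
  have hodd : Odd q := by
    rw [← Nat.not_even_iff_odd, even_iff_two_dvd]; exact hq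
  have h1 := hpp.two_le
  have hq3 : 3 ≤ q := by
    obtain ⟨k, hk⟩ := hodd
    omega
  have hfin : Finite (PSU 3 F q) := Quotient.finite _
  exact Row8.congr e.symm (Row.row8 (RowC.row (rowC hF hodd hq3)))

end Cfsg.Agent.H746.OddM.ThreeU
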