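import Cfsg.Prelude.Def_GeometricClasses
import Cfsg.Agent.H914.Sub

/-!
# S4785, dimension 3: transvections and diagonal elements in geometric subgroups (helper746, TEAM ODDM)

* `IsTv A`: `A` is a transvection; `IsTv.not_decomp`, `IsTv.not_form`, `IsTv.not_quad`
* `IsEg lam A`: `A` is conjugate to `diag(1, lam, lam⁻¹)`; `IsEg.subfield`
* `IsRu A`: `A` is a regular unipotent element
-/

set_option autoImplicit false

namespace Cfsg.Agent.H746.OddM.Three

open Cfsg Cfsg.Geo Matrix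
open scoped MatrixGroups

variable {F : Type*} [Field F]

local notation "V3" => Fin 3 → F
local notation "M3" => Matrix (Fin 3) (Fin 3) F

/-- a transvection -/
def IsTv (A : M3) : Prop :=
  ∃ φ a : V3, φ ⬝ᵥ a = 0 ∧ φ ≠ 0 ∧ a ≠ 0 ∧ A = 1 + vecMulVec a φ

theorem tv_mulVec (φ a v : V3) : (1 + vecMulVec a φ : M3) *ᵥ v = v + (φ ⬝ᵥ v) • a := by
  rw [Matrix.add_mulVec, Matrix.one_mulVec]
  congr 1
  ext i
  simp only [Matrix.mulVec, dotProduct, vecMulVec_apply, Pi.smul_apply, smul_eq_mul, Finset.sum_mul]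
  exact Finset.sum_congr rfl fun j _ => by ring

theorem conj_ne_zero {P Q : M3} (hPQ : Q * P = 1) {a : V3} (ha : a ≠ 0) : P *ᵥ a ≠ 0 := by
  intro h
  apply ha
  rw [← Matrix.one_mulVec a, ← hPQ, ← Matrix.mulVec_mulVec, h, Matrix.mulVec_zero]

theorem IsTv.conj {A : M3} (h : IsTv A) (P : GL (Fin 3) F) :
    IsTv ((P : M3) * A * ((P⁻¹ : GL (Fin 3) F) : M3)) := by
  obtain ⟨φ, a, h1, h2, h3, rfl⟩ := h
  have hPQ : ((P⁻¹ : GL (Fin 3) F) : M3) * (P : M3) = 1 := by rw [← Units.val_mul, inv_mul_cancel, Units.val_one]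
  have hQP : (P : M3) * ((P⁻¹ : GL (Fin 3) F) : M3) = 1 := by rw [← Units.val_mul, mul_inv_cancel, Units.val_one]
  refine ⟨φ ᵥ* ((P⁻¹ : GL (Fin 3) F) : M3), (P : M3) *ᵥ a, ?_, ?_, conj_ne_zero hPQ h3, ?_⟩
  · rw [← Matrix.dotProduct_mulVec, Matrix.mulVec_mulVec, hPQ, Matrix.one_mulVec, h1]
  · intro h
    apply h2
    rw [← Matrix.vecMul_one φ, ← hPQ, ← Matrix.vecMul_vecMul, h, Matrix.zero_vecMul]
  · rw [Matrix.mul_add, Matrix.add_mul, Matrix.mul_one, hQP, Matrix.mul_vecMulVec, Matrix.vecMulVec_mul]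

/-- a basis adapted to a decomposition -/
theorem exists_basis {D : Fin 3 → Submodule F V3} (hD : IsMDecomposition 1 D) :
    ∃ b : Module.Basis (Fin 3) F V3, ∀ i, D i = Submodule.span F {b i} := by
  have h1 : ∀ i, ∃ v : V3, v ∈ D i ∧ v ≠ 0 ∧ D i = Submodule.span F {v} := by
    intro i
    obtain ⟨v, hv, hs⟩ := finrank_eq_one_iff'.1 (hD.finrank_eq i)
    refine ⟨v, v.2, fun h => hv (Subtype.ext h), le_antisymm ?_ ?_⟩
    · intro w hw
      obtain ⟨c, hc⟩ := hs ⟨w, hw⟩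
      rw [Submodule.mem_span_singleton]
      exact ⟨c, congrArg Subtype.val hc⟩
    · rw [Submodule.span_singleton_le_iff_mem]
      exact v.2
  choose v hv hv0 hs using h1
  have hli : LinearIndependent F v := hD.indep.linearIndependent _ hv hv0
  refine ⟨basisOfLinearIndependentOfCardEqFinrank hli (by simp), fun i => ?_⟩
  rw [coe_basisOfLinearIndependentOfCardEqFinrank]
  exact hs i

theorem exists_ne_zero (b : Module.Basis (Fin 3) F V3) {φ : V3} (hφ : φ ≠ 0) : ∃ i, φ ⬝ᵥ b i ≠ 0 := by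
  by_contra h
  push Not at h
  apply hφ
  have h1 : ∀ v : V3, φ ⬝ᵥ v = 0 := by
    intro v
    rw [← b.sum_repr v, dotProduct_sum]
    refine Finset.sum_eq_zero fun i _ => ?_
    rw [dotProduct_smul, h i, smul_zero]
  exact (dotProduct_eq_zero_iff).1 h1

/-- **a transvection is not monomial** -/
theorem IsTv.not_decomp (h2 : (2 : F) ≠ 0) {A : GL (Fin 3) F} (hA : IsTv (A : M3)) {D : Fin 3 → Submodule F V3}
    (hD : IsMDecomposition 1 D) : A ∉ decompositionStabilizer D := by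
  rintro ⟨σ, hσ⟩
  obtain ⟨b, hb⟩ := exists_basis hD
  obtain ⟨φ, a, h1, hφ, ha, hAe⟩ := hA
  have hact : ∀ v, (A : M3) *ᵥ v = v + (φ ⬝ᵥ v) • a := fun v => by rw [hAe, tv_mulVec]
  have hmu : ∀ i, ∃ μ : F, (A : M3) *ᵥ b i = μ • b (σ i) := by
    intro i
    have h3 : Matrix.toLin' (A : M3) (b i) ∈ (D i).map (Matrix.toLin' (A : M3)) := by
      refine Submodule.mem_map_of_mem ?_
      rw [hb i]; exact Submodule.mem_span_singleton_self _
    rw [hσ i, hb (σ i), Submodule.mem_span_singleton] at h3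
    obtain ⟨μ, hμ⟩ := h3
    exact ⟨μ, by rw [hμ, Matrix.toLin'_apply]⟩
  obtain ⟨i, hi⟩ := exists_ne_zero b hφ
  obtain ⟨μ, hμ⟩ := hmu i
  rw [hact] at hμ
  by_cases hj : σ i = i
  · rw [hj] at hμ
    have h3 : φ ⬝ᵥ b i = μ * (φ ⬝ᵥ b i) := by
      have := congrArg (fun w => φ ⬝ᵥ w) hμ
      simpa [dotProduct_add, dotProduct_smul, h1] using this
    have h4 : μ = 1 := by
      have : (μ - 1) * (φ ⬝ᵥ b i) = 0 := by linear_combination -h3
      rcases mul_eq_zero.1 this with h | h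
      · linear_combination h
      · exact absurd h hi
    rw [h4, one_smul] at hμ
    have h5 : (φ ⬝ᵥ b i) • a = 0 := by simpa using hμ
    rcases smul_eq_zero.1 h5 with h | h
    · exact hi h
    · exact ha h
  · have h3 : φ ⬝ᵥ b i = μ * (φ ⬝ᵥ b (σ i)) := by
      have := congrArg (fun w => φ ⬝ᵥ w) hμ
      simpa [dotProduct_add, dotProduct_smul, h1] using this
    have hμ0 : μ ≠ 0 := by
      rintro rfl
      rw [zero_mul] at h3
      exact hi h3
    obtain ⟨ν, hν⟩ := hmu (σ i)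
    rw [hact] at hν
    -- `μ A b_j = 2 μ b_j - b_i`
    have h4 : (2 * μ) • b (σ i) - b i = (μ * ν) • b (σ (σ i)) := by
      have e1 : (μ * ν) • b (σ (σ i)) = μ • (b (σ i) + (φ ⬝ᵥ b (σ i)) • a) := by rw [hν, smul_smul]
      have e2 : μ • (b (σ i) + (φ ⬝ᵥ b (σ i)) • a) = μ • b (σ i) + (φ ⬝ᵥ b i) • a := by
        rw [smul_add, smul_smul, ← h3]
      have e3 : (φ ⬝ᵥ b i) • a = μ • b (σ i) - b i := by rw [← hμ]; abel
      rw [e1, e2, e3, two_mul, add_smul]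
      abel
    have hrep := congrArg (fun w => b.repr w) h4
    have hr1 := congrArg (fun w => w (σ i)) hrep
    have hr2 := congrArg (fun w => w i) hrep
    simp only [map_sub, map_smul, Module.Basis.repr_self, Finsupp.sub_apply, Finsupp.smul_apply, smul_eq_mul,
      Finsupp.single_apply] at hr1 hr2
    rw [if_pos trivial, if_neg (fun h => hj h.symm), mul_one, sub_zero] at hr1
    rw [if_neg hj, if_pos trivial, mul_zero, zero_sub] at hr2
    by_cases h5 : σ (σ i) = σ i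
    · rw [h5, if_neg hj, mul_zero] at hr2
      exact one_ne_zero (neg_eq_zero.1 hr2)
    · rw [if_neg h5, mul_zero] at hr1
      exact (mul_ne_zero h2 hμ0) hr1

/-- **a transvection is not a similarity of a symmetric form** -/
theorem IsTv.not_form (h2 : (2 : F) ≠ 0) {A : M3} (hA : IsTv A) {B : V3 → V3 → F} (hB : IsBilinearForm B)
    (hs : ∀ v w, B v w = B w v) (hn : IsNondegenerateForm B) {c : F}
    (h : ∀ v w, B (A *ᵥ v) (A *ᵥ w) = c * B v w) : False := by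
  obtain ⟨φ, a, h1, hφ, ha, hAe⟩ := hA
  have hact : ∀ v, A *ᵥ v = v + (φ ⬝ᵥ v) • a := fun v => by rw [hAe, tv_mulVec]
  have key : ∀ v w, B v w + (φ ⬝ᵥ w) * B v a + (φ ⬝ᵥ v) * B a w + (φ ⬝ᵥ v) * (φ ⬝ᵥ w) * B a a = c * B v w := by
    intro v w
    rw [← h, hact, hact, hB.add_left, hB.add_right, hB.smul_left, hB.add_right, hB.smul_right, hB.smul_right]
    ring
  obtain ⟨w₁, hw₁⟩ := (hn a ha).2
  have hc : c = 1 := by
    by_contra hc
    have e1 := key a a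
    rw [h1] at e1
    have e2 : B a a = 0 := by
      have : (1 - c) * B a a = 0 := by linear_combination e1
      exact (mul_eq_zero.1 this).resolve_left (sub_ne_zero.2 (Ne.symm hc))
    have e3 := key a w₁
    rw [h1, e2] at e3
    have : (1 - c) * B a w₁ = 0 := by linear_combination e3
    exact hw₁ ((mul_eq_zero.1 this).resolve_left (sub_ne_zero.2 (Ne.symm hc)))
  subst hc
  obtain ⟨j, hj⟩ : ∃ j, φ j ≠ 0 := by
    by_contra hcon
    push Not at hcon
    exact hφ (funext hcon)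
  set w₂ : V3 := Pi.single j 1 with hw₂
  have hφw : φ ⬝ᵥ w₂ ≠ 0 := by rw [hw₂, dotProduct_single_one]; exact hj
  have haa : B a a = 0 := by
    have e1 := key a w₂
    rw [h1] at e1
    have : (φ ⬝ᵥ w₂) * B a a = 0 := by linear_combination e1
    exact (mul_eq_zero.1 this).resolve_left hφw
  have e2 : B w₂ a = 0 := by
    have e1 := key w₂ w₂
    rw [haa, hs a w₂] at e1
    have : (2 * (φ ⬝ᵥ w₂)) * B w₂ a = 0 := by linear_combination e1
    exact (mul_eq_zero.1 this).resolve_left (mul_ne_zero h2 hφw)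
  have e3 : B w₁ a = 0 := by
    have e1 := key w₁ w₂
    rw [haa, hs a w₂, e2] at e1
    have : (φ ⬝ᵥ w₂) * B w₁ a = 0 := by linear_combination e1
    exact (mul_eq_zero.1 this).resolve_left hφw
  rw [hs] at e3
  exact hw₁ e3

/-- **a transvection is not a similarity of a quadratic form** -/
theorem IsTv.not_quad (h2 : (2 : F) ≠ 0) {A : GL (Fin 3) F} (hA : IsTv (A : M3)) {Q : V3 → F}
    (hQ : IsNondegenerateQuadraticForm Q) : A ∉ quadSimilarityGroup Q := by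
  rintro ⟨c, hc⟩
  refine hA.not_form h2 hQ.polar_bilinear (fun v w => QuadraticMap.polar_comm Q v w) hQ.nondegenerate (c := c) ?_
  intro v w
  rw [QuadraticMap.polar, QuadraticMap.polar, ← Matrix.mulVec_add, hc, hc, hc]
  ring

/-- conjugate to `diag(1, lam, lam⁻¹)` -/
def IsEg (lam : F) (A : M3) : Prop :=
  ∃ P : GL (Fin 3) F, A = (P : M3) * Matrix.diagonal ![1, lam, lam⁻¹] * ((P⁻¹ : GL (Fin 3) F) : M3)

theorem IsEg.conj {lam : F} {A : M3} (h : IsEg lam A) (P : GL (Fin 3) F) :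
    IsEg lam ((P : M3) * A * ((P⁻¹ : GL (Fin 3) F) : M3)) := by
  obtain ⟨Q, rfl⟩ := h
  refine ⟨P * Q, ?_⟩
  rw [_root_.mul_inv_rev, Units.val_mul, Units.val_mul]
  simp only [Matrix.mul_assoc]

theorem trace_conj (P : GL (Fin 3) F) (A : M3) :
    ((P : M3) * A * ((P⁻¹ : GL (Fin 3) F) : M3)).trace = A.trace := by
  rw [Matrix.trace_mul_comm, ← Matrix.mul_assoc, ← Units.val_mul, inv_mul_cancel, Units.val_one, Matrix.one_mul]

theorem trace_adj_conj (P : GL (Fin 3) F) (A : M3) :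
    ((P : M3) * A * ((P⁻¹ : GL (Fin 3) F) : M3)).adjugate.trace = A.adjugate.trace := by
  rw [Matrix.adjugate_mul_distrib, Matrix.adjugate_mul_distrib, Matrix.trace_mul_comm, Matrix.mul_assoc,
    ← Matrix.adjugate_mul_distrib, ← Units.val_mul, inv_mul_cancel, Units.val_one, Matrix.adjugate_one,
    Matrix.mul_one]

/-- **subfield subgroups and `diag(1, lam, lam⁻¹)`** -/
theorem IsEg.subfield {lam : F} (hlam : lam ≠ 0) {A : GL (Fin 3) F} (hA : IsEg lam (A : M3)) {F₀ : Subfield F}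
    {P : GL (Fin 3) F} (h : A ∈ subfieldSubgroup F₀ P) :
    1 + lam + lam⁻¹ = 0 ∨ lam + lam⁻¹ ∈ F₀ := by
  obtain ⟨c, hc, hB⟩ := Cfsg.Agent.H914.mem_subfieldSubgroup_iff.1 h
  set s := 1 + lam + lam⁻¹ with hs
  have hAP : ((P⁻¹ * A * P : GL (Fin 3) F) : M3) = ((P⁻¹ : GL (Fin 3) F) : M3) * (A : M3) *
      (((P⁻¹)⁻¹ : GL (Fin 3) F) : M3) := by
    rw [inv_inv, Units.val_mul, Units.val_mul]
  set B : M3 := ((P⁻¹ * A * P : GL (Fin 3) F) : M3) with hBd
  have e1 : B.trace = s := by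
    obtain ⟨Q, hQ⟩ := hA
    rw [hAP, trace_conj, hQ, trace_conj, Matrix.trace_diagonal, Fin.sum_univ_three]
    rfl
  have e2 : B.adjugate.trace = s := by
    obtain ⟨Q, hQ⟩ := hA
    rw [hAP, trace_adj_conj, hQ, trace_adj_conj, hs, Matrix.adjugate_fin_three, Matrix.trace_fin_three]
    simp [Matrix.diagonal, hlam]
    ring
  have h1 : c * s ∈ F₀ := by
    rw [← e1, Matrix.trace_fin_three, mul_add, mul_add]
    exact add_mem (add_mem (hB 0 0) (hB 1 1)) (hB 2 2)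
  have h2 : c ^ 2 * s ∈ F₀ := by
    rw [← e2, Matrix.adjugate_fin_three, Matrix.trace_fin_three]
    have e : c ^ 2 * ((c * B 1 1 * (c * B 2 2) - c * B 1 2 * (c * B 2 1)) / c ^ 2 +
        (c * B 0 0 * (c * B 2 2) - c * B 0 2 * (c * B 2 0)) / c ^ 2 +
        (c * B 0 0 * (c * B 1 1) - c * B 0 1 * (c * B 1 0)) / c ^ 2) ∈ F₀ := by
      rw [← add_div, ← add_div, mul_div_cancel₀ _ (pow_ne_zero 2 hc)]
      exact add_mem (add_mem (sub_mem (mul_mem (hB 1 1) (hB 2 2)) (mul_mem (hB 1 2) (hB 2 1)))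
        (sub_mem (mul_mem (hB 0 0) (hB 2 2)) (mul_mem (hB 0 2) (hB 2 0))))
        (sub_mem (mul_mem (hB 0 0) (hB 1 1)) (mul_mem (hB 0 1) (hB 1 0)))
    convert e using 2
    simp
    field_simp
  by_cases hs0 : s = 0
  · exact Or.inl hs0
  right
  have hcF : c ∈ F₀ := by
    have : c = c ^ 2 * s / (c * s) := by field_simp
    rw [this]
    exact div_mem h2 h1
  have : lam + lam⁻¹ = c * s / c - 1 := by rw [mul_div_cancel_left₀ _ hc, hs]; ring
  rw [this]
  exact sub_mem (div_mem h1 hcF) (one_mem _)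

/-- a regular unipotent element -/
def IsRu (A : M3) : Prop := (A - 1) ^ 3 = 0 ∧ (A - 1) ^ 2 ≠ 0

theorem sub_one_conj (A : M3) (P : GL (Fin 3) F) (n : ℕ) :
    ((P : M3) * A * ((P⁻¹ : GL (Fin 3) F) : M3) - 1) ^ n = (P : M3) * (A - 1) ^ n * ((P⁻¹ : GL (Fin 3) F) : M3) := by
  have hPP : (P : M3) * ((P⁻¹ : GL (Fin 3) F) : M3) = 1 := by rw [← Units.val_mul, mul_inv_cancel, Units.val_one]
  have hPP' : ((P⁻¹ : GL (Fin 3) F) : M3) * (P : M3) = 1 := by rw [← Units.val_mul, inv_mul_cancel, Units.val_one]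
  have h1 : (P : M3) * A * ((P⁻¹ : GL (Fin 3) F) : M3) - 1 = (P : M3) * (A - 1) * ((P⁻¹ : GL (Fin 3) F) : M3) := by
    rw [Matrix.mul_sub, Matrix.sub_mul, Matrix.mul_one, hPP]
  rw [h1]
  induction n with
  | zero => rw [pow_zero, pow_zero, Matrix.mul_one, hPP]
  | succ n ih =>
    rw [pow_succ, ih, pow_succ]
    calc (P : M3) * (A - 1) ^ n * ((P⁻¹ : GL (Fin 3) F) : M3) * ((P : M3) * (A - 1) * ((P⁻¹ : GL (Fin 3) F) : M3))
        = (P : M3) * (A - 1) ^ n * (((P⁻¹ : GL (Fin 3) F) : M3) * (P : M3)) * (A - 1) *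
          ((P⁻¹ : GL (Fin 3) F) : M3) := by simp only [Matrix.mul_assoc]
      _ = _ := by rw [hPP', Matrix.mul_one]; simp only [Matrix.mul_assoc]

theorem IsRu.conj {A : M3} (h : IsRu A) (P : GL (Fin 3) F) :
    IsRu ((P : M3) * A * ((P⁻¹ : GL (Fin 3) F) : M3)) := by
  constructor
  · rw [sub_one_conj, h.1, Matrix.mul_zero, Matrix.zero_mul]
  · rw [sub_one_conj]
    intro h1
    apply h.2
    have hPP' : ((P⁻¹ : GL (Fin 3) F) : M3) * (P : M3) = 1 := by rw [← Units.val_mul, inv_mul_cancel, Units.val_one]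
    calc (A - 1) ^ 2 = (((P⁻¹ : GL (Fin 3) F) : M3) * (P : M3)) * (A - 1) ^ 2 * (((P⁻¹ : GL (Fin 3) F) : M3) * (P : M3)) := by
          rw [hPP', Matrix.one_mul, Matrix.mul_one]
      _ = ((P⁻¹ : GL (Fin 3) F) : M3) * ((P : M3) * (A - 1) ^ 2 * ((P⁻¹ : GL (Fin 3) F) : M3)) * (P : M3) := by
          simp only [Matrix.mul_assoc]
      _ = 0 := by rw [h1, Matrix.mul_zero, Matrix.zero_mul]

/-- powers of a transvection are not regular unipotent -/
theorem IsTv.sq {A : M3} (h : IsTv A) : (A - 1) ^ 2 = 0 := by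
  obtain ⟨φ, a, h1, -, -, rfl⟩ := h
  rw [add_sub_cancel_left, pow_two, Matrix.vecMulVec_mul_vecMulVec, h1, zero_smul, Matrix.vecMulVec_zero]

theorem sq_pow {A : M3} (h : (A - 1) ^ 2 = 0) (n : ℕ) : (A ^ n - 1) ^ 2 = 0 := by
  have h1 : ∀ n : ℕ, A ^ n - 1 = (n : F) • (A - 1) := by
    intro n
    induction n with
    | zero => simp
    | succ n ih =>
      have e1 : A ^ (n + 1) - 1 = (A ^ n - 1) * (A - 1) + (A ^ n - 1) + (A - 1) := by
        rw [pow_succ]; noncomm_ring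
      rw [e1, ih, Matrix.smul_mul, ← pow_two, h, smul_zero, zero_add, Nat.cast_succ, add_smul, one_smul]
  rw [h1, smul_pow, h, smul_zero]

/-- the eigenvectors -/
theorem IsEg.exists_vec {lam : F} {A : M3} (hA : IsEg lam A) :
    ∃ b : Module.Basis (Fin 3) F V3, ∀ i, A *ᵥ b i = (![1, lam, lam⁻¹] i) • b i := by
  obtain ⟨P, rfl⟩ := hA
  have hPP : (P : M3) * ((P⁻¹ : GL (Fin 3) F) : M3) = 1 := by rw [← Units.val_mul, mul_inv_cancel, Units.val_one]
  have hPP' : ((P⁻¹ : GL (Fin 3) F) : M3) * (P : M3) = 1 := by rw [← Units.val_mul, inv_mul_cancel, Units.val_one]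
  let e : V3 ≃ₗ[F] V3 := LinearEquiv.ofLinearMap (Matrix.toLin' (P : M3)) (Matrix.toLin' ((P⁻¹ : GL (Fin 3) F) : M3))
    (by rw [← Matrix.toLin'_mul, hPP, Matrix.toLin'_one]) (by rw [← Matrix.toLin'_mul, hPP', Matrix.toLin'_one])
  refine ⟨(Pi.basisFun F (Fin 3)).map e, fun i => ?_⟩
  rw [Module.Basis.map_apply, Pi.basisFun_apply]
  change _ *ᵥ ((P : M3) *ᵥ (Pi.single i 1)) = _ • ((P : M3) *ᵥ (Pi.single i 1))
  rw [Matrix.mulVec_mulVec, Matrix.mul_assoc, hPP', Matrix.mul_one, ← Matrix.mulVec_mulVec,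
    Matrix.diagonal_mulVec_single, mul_one, ← Matrix.mulVec_smul]
  congr 1
  ext j
  by_cases hj : j = i
  · subst hj; simp
  · simp [hj]

/-- **unitary forms and `diag(1, lam, lam⁻¹)`, `lam` a generator** -/
theorem IsEg.not_unitary [Fintype F] {s : ℕ} (hF : Fintype.card F = s ^ 2) (hs : 3 ≤ s) {σ : F ≃+* F}
    (hσ : ∀ a, σ a = a ^ s) {u : Fˣ} (hu : orderOf u = Fintype.card F - 1) {A : GL (Fin 3) F}
    (hA : IsEg (u : F) (A : M3)) {f : V3 → V3 → F} (hf : IsUnitaryForm σ f) : A ∉ similarityGroup f := by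
  rintro ⟨c, hc⟩
  obtain ⟨b, hb⟩ := hA.exists_vec
  have hadd : ∀ v x y, f v (x + y) = f v x + f v y := by
    intro v x y
    rw [hf.herm, hf.add_left, map_add, ← hf.herm, ← hf.herm]
  have hsm : ∀ (a : F) v x, f v (a • x) = σ a * f v x := by
    intro a v x
    rw [hf.herm, hf.smul_left, map_mul, ← hf.herm]
  have hzero : ∀ v, f v 0 = 0 := by
    intro v
    have := hsm 0 v 0
    rwa [zero_smul, map_zero, zero_mul] at this
  have hμ : ∀ i, ∃ a : ℤ, (a = 0 ∨ a = 1 ∨ a = -1) ∧ (![1, (u : F), (u : F)⁻¹] i) = ((u ^ a : Fˣ) : F) := by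
    intro i
    fin_cases i
    · exact ⟨0, Or.inl rfl, by simp⟩
    · exact ⟨1, Or.inr (Or.inl rfl), by simp⟩
    · exact ⟨-1, Or.inr (Or.inr rfl), by simp⟩
  have hex : ∀ i, ∃ a : ℤ, (a = 0 ∨ a = 1 ∨ a = -1) ∧ (![1, (u : F), (u : F)⁻¹] i) * ((u ^ a : Fˣ) : F) ^ s = c := by
    intro i
    obtain ⟨x, hx⟩ := (hf.nondegenerate (b i) (b.ne_zero i)).2
    have : ∃ j, f (b i) (b j) ≠ 0 := by
      by_contra hcon
      push Not at hcon
      apply hx
      rw [← b.sum_repr x, Fin.sum_univ_three, hadd, hadd, hsm, hsm, hsm, hcon, hcon, hcon]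
      ring
    obtain ⟨j, hj⟩ := this
    obtain ⟨a, ha, ha'⟩ := hμ j
    refine ⟨a, ha, ?_⟩
    have h1 := hc (b i) (b j)
    rw [hb, hb, hf.smul_left, hsm, hσ, ha'] at h1
    have h2 : ((![1, (u : F), (u : F)⁻¹] i) * ((u ^ a : Fˣ) : F) ^ s - c) * f (b i) (b j) = 0 := by
      linear_combination h1
    exact sub_eq_zero.1 ((mul_eq_zero.1 h2).resolve_right hj)
  obtain ⟨a, ha, ha'⟩ := hex 0
  obtain ⟨a', hb1, hb'⟩ := hex 1
  have h1 : u * (u ^ a') ^ s = (u ^ a) ^ s := by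
    apply Units.ext
    push_cast
    have e1 : (![1, (u : F), (u : F)⁻¹] (0 : Fin 3)) = 1 := rfl
    have e2 : (![1, (u : F), (u : F)⁻¹] (1 : Fin 3)) = u := rfl
    rw [e1, one_mul] at ha'
    rw [e2] at hb'
    push_cast at ha' hb'
    rw [ha', hb']
  have h2 : u ^ (1 + (a' - a) * (s : ℤ)) = 1 := by
    have e1 : u ^ (1 + (a' - a) * (s : ℤ)) = u * (u ^ a') ^ s * ((u ^ a) ^ s)⁻¹ := by
      rw [← zpow_natCast (u ^ a') s, ← zpow_natCast (u ^ a) s, ← _root_.zpow_mul, ← _root_.zpow_mul,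
        ← _root_.zpow_one_add, ← _root_.zpow_neg, ← _root_.zpow_add]
      congr 1
      ring
    rw [e1, h1, mul_inv_cancel]
  have h3 := orderOf_dvd_iff_zpow_eq_one.2 h2
  rw [hu, hF] at h3
  have hs1 : 1 ≤ s ^ 2 := Nat.one_le_pow _ _ (by omega)
  rw [Nat.cast_sub hs1] at h3
  push_cast at h3
  obtain ⟨k, hk⟩ := h3
  have hs3 : (3 : ℤ) ≤ s := by exact_mod_cast hs
  have hbound : 2 * (s : ℤ) + 1 < (s : ℤ) ^ 2 - 1 := by nlinarith
  have hd : a' - a = 0 ∨ a' - a = 1 ∨ a' - a = -1 ∨ a' - a = 2 ∨ a' - a = -2 := by omega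
  have hk0 : k = 0 := by
    by_contra hk0
    rcases lt_or_gt_of_ne hk0 with h | h
    · have : ((s : ℤ) ^ 2 - 1) * k ≤ -((s : ℤ) ^ 2 - 1) := by nlinarith
      rcases hd with h | h | h | h | h <;> rw [h] at hk <;> nlinarith
    · have : ((s : ℤ) ^ 2 - 1) ≤ ((s : ℤ) ^ 2 - 1) * k := by nlinarith
      rcases hd with h | h | h | h | h <;> rw [h] at hk <;> nlinarith
  rw [hk0, mul_zero] at hk
  rcases hd with h | h | h | h | h <;> rw [h] at hk <;> omega

end Cfsg.Agent.H746.OddM.Three
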