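import Cfsg.Agent.H746.OddM.ThreeBase
import Cfsg.Agent.H453.OddM.Defs
import Cfsg.Agent.LieClassical.HermGen
import Cfsg.Agent.ClassicalGeometry.UnitTransv

/-!
# S4785: real elements of `SU_3(q)`, `q` odd (helper746, TEAM ODDM)

* `exists_tv`: a real transvection; `exists_ru`: a real regular unipotent element, its fixed vectors are isotropic;
* `exists_eg`: `diag(1, lam, lam⁻¹)`, `lam` of order `q + 1`.
-/

set_option autoImplicit false

namespace Cfsg.Agent.H746.OddM.ThreeU

open Cfsg Cfsg.Geo Matrix Cfsg.Agent.LieClassical.HermBasic Cfsg.Agent.LieClassical.HermSiegel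
  Cfsg.Agent.H746.OddM.Three Cfsg.Agent.H453.OddM
open scoped MatrixGroups

variable {F : Type*} [Field F] [Fintype F] {q : ℕ}

local notation "V3" => Fin 3 → F
local notation "M3" => Matrix (Fin 3) (Fin 3) F

omit [Fintype F] in
theorem herm_act (A : SU 3 F q) (x y : V3) : hermForm 3 F q (act A x) (act A y) = hermForm 3 F q x y := A.2 x y

/-- an isotropic vector orthogonal to `e_0` -/
theorem exists_iso (hF : Fintype.card F = q ^ 2) (hq : Odd q) :
    ∃ w : V3, w ≠ 0 ∧ w 0 = 0 ∧ hermForm 3 F q w w = 0 ∧ ∀ v : V3, v 0 = 0 → hermForm 3 F q v w = 0 →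
      hermForm 3 F q v v = 0 := by
  obtain ⟨ε, hε⟩ := exists_norm_eq hF (c := (-1 : F)) hq.neg_one_pow
  have hq0 : q ≠ 0 := hq.pos.ne'
  refine ⟨![0, 1, ε], ?_, rfl, ?_, ?_⟩
  · intro h
    have := congrFun h 1
    simp at this
  · rw [herm_def, Fin.sum_univ_three]
    simp [hε, hq0]
  · intro v hv hvw
    rw [herm_def, Fin.sum_univ_three] at hvw ⊢
    simp only [Matrix.cons_val_zero, Matrix.cons_val_one, Matrix.cons_val, one_pow, mul_one] at hvw
    rw [hv, zero_mul, zero_add] at hvw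
    have h1 : v 1 = -(v 2 * ε ^ q) := eq_neg_of_add_eq_zero_left hvw
    rw [hv, zero_mul, zero_add, h1, hq.neg_pow, mul_pow, pow_q_pow_q hF]
    linear_combination (v 2 * v 2 ^ q) * hε

/-- **a real transvection** -/
theorem exists_tv (hF : Fintype.card F = q ^ 2) (hq : Odd q) :
    ∃ t : SU 3 F q, IsReal t ∧ IsTv (mat t) := by
  obtain ⟨w, hw0, -, hw, -⟩ := exists_iso hF hq
  obtain ⟨c, hc0, hc⟩ := exists_trace_zero_ne hF
  obtain ⟨a, ha⟩ := exists_norm_eq hF (c := (-1 : F)) hq.neg_one_pow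
  have ha0 : a ≠ 0 := by
    rintro rfl
    rw [zero_mul] at ha
    exact one_ne_zero (neg_eq_zero.1 ha.symm)
  obtain ⟨g, -, hg⟩ := Cfsg.Agent.LieClassical.HermGen.exists_map_iso (n := 3) hF le_rfl le_rfl
    (Cfsg.Agent.LieClassical.HermGen.mem_coordSub_top w)
    (Cfsg.Agent.LieClassical.HermGen.mem_coordSub_top (a • w)) hw0 (smul_ne_zero ha0 hw0) hw
    (by rw [herm_smul_left, herm_smul_right, hw, mul_zero, mul_zero])
  set t := Cfsg.Agent.ClassicalGeometry.UnitTransv.utv hF w c hw hc with ht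
  have hact : ∀ x, act t x = x + (c * hermForm 3 F q x w) • w := fun x =>
    Cfsg.Agent.ClassicalGeometry.UnitTransv.act_utv hF hw hc x
  refine ⟨t, ⟨g, ?_⟩, ?_⟩
  · apply eq_inv_of_mul_eq_one_left
    apply Cfsg.Agent.ClassicalGeometry.UnitTransv.ext_act
    intro x
    change act (g * t * g⁻¹ * t) x = act 1 x
    rw [act_one, act_mul, act_mul, act_mul, hact x, hact, act_add, act_act_inv, act_smul, hg]
    have h1 : ∀ y, hermForm 3 F q (act g⁻¹ y) w = a ^ q * hermForm 3 F q y w := by
      intro y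
      rw [← herm_act g, act_act_inv, hg, herm_smul_right]
    rw [h1, herm_add_left, herm_smul_left, hw, mul_zero, add_zero, smul_smul, add_assoc, ← add_smul]
    have h2 : c * hermForm 3 F q x w + c * (a ^ q * hermForm 3 F q x w) * a = 0 := by
      linear_combination (c * hermForm 3 F q x w) * ha
    rw [h2, zero_smul, add_zero]
  · obtain ⟨z, hz⟩ := exists_herm_ne_zero hF hw0
    have hz' : hermForm 3 F q z w ≠ 0 := fun h => hz (herm_eq_zero_swap hF h)
    refine ⟨fun j => c * w j ^ q, w, ?_, ?_, hw0, ?_⟩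
    · have : (fun j => c * w j ^ q) ⬝ᵥ w = c * hermForm 3 F q w w := by
        rw [dotProduct, herm_def, Finset.mul_sum]
        exact Finset.sum_congr rfl fun i _ => by ring
      rw [this, hw, mul_zero]
    · intro h
      apply hz'
      have : (fun j => c * w j ^ q) ⬝ᵥ z = c * hermForm 3 F q z w := by
        rw [dotProduct, herm_def, Finset.mul_sum]
        exact Finset.sum_congr rfl fun i _ => by ring
      rw [h, zero_dotProduct] at this
      exact (mul_eq_zero.1 this.symm).resolve_left hc0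
    · apply Matrix.ext_of_mulVec_single
      intro i
      rw [tv_mulVec]
      have := hact (Pi.single i 1)
      rw [act_def] at this
      rw [this]
      congr 2
      rw [dotProduct, herm_def, Finset.mul_sum]
      exact Finset.sum_congr rfl fun i _ => by ring

/-- the involution with `+1`-eigenspace `⟨b⟩` -/
theorem exists_refl (hF : Fintype.card F = q ^ 2) {b : V3} (hb : hermForm 3 F q b b = 1) :
    ∃ s : SU 3 F q, s ^ 2 = 1 ∧ ∀ x, act s x = -x + (2 * hermForm 3 F q x b) • b := by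
  have h2q : (2 : F) ^ q = 2 := by
    have := add_pow_q hF (1 : F) 1
    rw [one_pow] at this
    norm_num at this
    exact this
  set M : M3 := -Cfsg.Agent.ClassicalGeometry.UnitTransv.rankOne q ((-2 : F) • b) b with hM
  have hMv : ∀ x, M *ᵥ x = -x + (2 * hermForm 3 F q x b) • b := by
    intro x
    rw [hM, Matrix.neg_mulVec, Cfsg.Agent.ClassicalGeometry.UnitTransv.rankOne_mulVec, smul_smul, neg_add,
      ← neg_smul]
    congr 2
    ring
  have hdet : M.det = 1 := by
    rw [hM, Matrix.det_neg, Cfsg.Agent.ClassicalGeometry.UnitTransv.det_rankOne, herm_smul_left, hb,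
      Fintype.card_fin]
    norm_num
  have hherm : ∀ x y, hermForm 3 F q (M *ᵥ x) (M *ᵥ y) = hermForm 3 F q x y := by
    intro x y
    rw [hMv, hMv, herm_add_left, herm_add_right hF, herm_add_right hF, herm_neg_left, herm_neg_right hF,
      herm_neg_right hF, herm_neg_left, herm_smul_left, herm_smul_right, herm_smul_left, herm_smul_right, hb,
      mul_pow, h2q, ← herm_swap hF y b]
    ring
  refine ⟨Cfsg.Agent.ClassicalGeometry.UnitTransv.mk M hdet hherm, ?_, fun x => hMv x⟩
  apply Cfsg.Agent.ClassicalGeometry.UnitTransv.ext_act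
  intro x
  rw [pow_two, Cfsg.Agent.ClassicalGeometry.UnitTransv.act_mul, Cfsg.Agent.ClassicalGeometry.UnitTransv.act_one,
    Cfsg.Agent.ClassicalGeometry.UnitTransv.act_mk, Cfsg.Agent.ClassicalGeometry.UnitTransv.act_mk, hMv, hMv,
    herm_add_left, herm_neg_left, herm_smul_left, hb, neg_add, neg_neg, ← neg_smul, add_assoc, ← add_smul]
  have : -(2 * hermForm 3 F q x b) + 2 * (-hermForm 3 F q x b + 2 * hermForm 3 F q x b * 1) = 0 := by ring
  rw [this, zero_smul, add_zero]

/-- **a real regular unipotent element** -/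
theorem exists_ru (hF : Fintype.card F = q ^ 2) (hq : Odd q) (h2 : (2 : F) ≠ 0) :
    ∃ u : SU 3 F q, IsReal u ∧ IsRu (mat u) ∧ ∀ v, act u v = v → hermForm 3 F q v v = 0 := by
  obtain ⟨w, hw0, hw1, hw, hker⟩ := exists_iso hF hq
  set e : V3 := Pi.single 0 1 with he
  have hee : hermForm 3 F q e e = 1 := by rw [he, herm_single_left, Pi.single_eq_same]; simp
  have hwe : hermForm 3 F q w e = 0 := by rw [he, herm_single_right hF, hw1, zero_mul]
  have hew : hermForm 3 F q e w = 0 := herm_eq_zero_swap hF hwe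
  obtain ⟨s, hs, hsx⟩ := exists_refl hF hee
  obtain ⟨t, ht, htx⟩ := exists_refl hF (b := e + w) (by
    rw [herm_add_left, herm_add_right hF, herm_add_right hF, hee, hwe, hew, hw]; ring)
  have hact : ∀ x, act (s * t) x = x + (2 * hermForm 3 F q x w) • e -
      (2 * (hermForm 3 F q x e + hermForm 3 F q x w)) • w := by
    intro x
    rw [act_mul, hsx, htx, herm_add_left, herm_neg_left, herm_smul_left, herm_add_left, hee, hwe,
      herm_add_right hF]
    module
  have hN : ∀ x, (mat (s * t) - 1) *ᵥ x = (2 * hermForm 3 F q x w) • e -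
      (2 * (hermForm 3 F q x e + hermForm 3 F q x w)) • w := by
    intro x
    rw [Matrix.sub_mulVec, Matrix.one_mulVec]
    have := hact x
    rw [act_def] at this
    rw [this]
    abel
  have hNw : ∀ x, hermForm 3 F q ((mat (s * t) - 1) *ᵥ x) w = 0 := by
    intro x
    rw [hN, herm_sub_left, herm_smul_left, herm_smul_left, hew, hw]; ring
  have hNe : ∀ x, hermForm 3 F q ((mat (s * t) - 1) *ᵥ x) e = 2 * hermForm 3 F q x w := by
    intro x
    rw [hN, herm_sub_left, herm_smul_left, herm_smul_left, hee, hwe]; ring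
  have hN2 : ∀ x, (mat (s * t) - 1) *ᵥ ((mat (s * t) - 1) *ᵥ x) = (-(4 * hermForm 3 F q x w)) • w := by
    intro x
    rw [hN ((mat (s * t) - 1) *ᵥ x), hNw, hNe]
    rw [mul_zero, zero_smul, zero_sub, ← neg_smul]
    congr 1
    ring
  have h4 : (4 : F) ≠ 0 := by
    have : (4 : F) = 2 * 2 := by norm_num
    rw [this]; exact mul_ne_zero h2 h2
  refine ⟨s * t, IsReal.of_mul hs ht, ⟨?_, ?_⟩, ?_⟩
  · apply Matrix.ext_of_mulVec_single
    intro i
    rw [Matrix.zero_mulVec, pow_succ', pow_two, ← Matrix.mulVec_mulVec, ← Matrix.mulVec_mulVec]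
    have h5 := hN2 ((mat (s * t) - 1) *ᵥ (Pi.single i 1))
    rw [hNw, mul_zero, neg_zero, zero_smul] at h5
    exact h5
  · intro h0
    obtain ⟨z, hz⟩ := exists_herm_ne_zero hF hw0
    have hz' : hermForm 3 F q z w ≠ 0 := fun h => hz (herm_eq_zero_swap hF h)
    have h5 := hN2 z
    rw [Matrix.mulVec_mulVec, ← pow_two, h0, Matrix.zero_mulVec] at h5
    have h6 := (smul_eq_zero.1 h5.symm).resolve_right hw0
    exact (mul_ne_zero h4 hz') (neg_eq_zero.1 h6)
  · intro v hv
    have h5 : (mat (s * t) - 1) *ᵥ v = 0 := by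
      rw [Matrix.sub_mulVec, Matrix.one_mulVec, ← act_def, hv, sub_self]
    have h6 := hN2 v
    rw [h5, Matrix.mulVec_zero] at h6
    have h7 : hermForm 3 F q v w = 0 := by
      have := (smul_eq_zero.1 h6.symm).resolve_right hw0
      exact (mul_eq_zero.1 (neg_eq_zero.1 this)).resolve_left h4
    have h8 := hN v
    rw [h5, h7, mul_zero, zero_smul, zero_sub, add_zero] at h8
    have h9 : v 0 = 0 := by
      have := (smul_eq_zero.1 (neg_eq_zero.1 h8.symm)).resolve_right hw0
      have h10 := (mul_eq_zero.1 this).resolve_left h2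
      rwa [he, herm_single_right hF, one_pow, mul_one] at h10
    exact hker v h9 h7

/-- **a real diagonal element** -/
theorem exists_eg (hF : Fintype.card F = q ^ 2) (hq : Odd q) :
    ∃ (lam : Fˣ) (x : SU 3 F q), orderOf lam = q + 1 ∧ IsReal x ∧ mat x = Matrix.diagonal ![1, (lam : F), (lam : F)⁻¹] := by
  classical
  have hq0 : 0 < q := hq.pos
  have hcard : Nat.card Fˣ = (q + 1) * (q - 1) := card_units_eq hF
  obtain ⟨g, hg⟩ := IsCyclic.exists_generator (α := Fˣ)
  have hog : orderOf g = (q + 1) * (q - 1) := by rw [orderOf_eq_card_of_forall_mem_zpowers hg, hcard]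
  have hpos : 0 < q - 1 := by
    have := two_le hF
    omega
  set lam : Fˣ := g ^ (q - 1) with hlam
  have hol : orderOf lam = q + 1 := by
    rw [hlam, orderOf_pow_of_dvd hpos.ne' (by rw [hog]; exact Dvd.intro_left _ rfl), hog,
      Nat.mul_div_cancel _ hpos]
  have hlq : lam * lam ^ q = 1 := by rw [← pow_succ', ← hol, pow_orderOf_eq_one]
  have hlqF : (lam : F) * (lam : F) ^ q = 1 := by
    have := congrArg Units.val hlq
    simpa using this
  have hlqi : (lam : F)⁻¹ * ((lam : F)⁻¹) ^ q = 1 := by rw [inv_pow, ← mul_inv, hlqF, inv_one]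
  have hherm : ∀ x y : V3, hermForm 3 F q (Matrix.diagonal ![1, (lam : F), (lam : F)⁻¹] *ᵥ x)
      (Matrix.diagonal ![1, (lam : F), (lam : F)⁻¹] *ᵥ y) = hermForm 3 F q x y := by
    intro x y
    rw [herm_def, herm_def, Fin.sum_univ_three, Fin.sum_univ_three]
    simp only [Matrix.mulVec_diagonal, Matrix.cons_val_zero, Matrix.cons_val_one, Matrix.cons_val, one_mul, mul_pow]
    linear_combination (x 1 * y 1 ^ q) * hlqF + (x 2 * y 2 ^ q) * hlqi
  have hdet : (Matrix.diagonal ![1, (lam : F), (lam : F)⁻¹]).det = 1 := by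
    rw [Matrix.det_diagonal, Fin.prod_univ_three]
    simp
  -- the swap
  have e1 : ∀ z : V3, (!![-1, 0, 0; 0, 0, 1; 0, 1, 0] : M3) *ᵥ z = ![-z 0, z 2, z 1] := by
    intro z
    ext i
    fin_cases i <;> simp [Matrix.mulVec, dotProduct, Fin.sum_univ_three]
  have e2 : ∀ z : V3, Matrix.diagonal ![1, (lam : F), (lam : F)⁻¹] *ᵥ z = ![z 0, lam * z 1, (lam : F)⁻¹ * z 2] := by
    intro z
    ext i
    fin_cases i <;> simp [Matrix.mulVec_diagonal]
  have hs : ∀ x y : V3, hermForm 3 F q ((!![-1, 0, 0; 0, 0, 1; 0, 1, 0] : M3) *ᵥ x)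
      ((!![-1, 0, 0; 0, 0, 1; 0, 1, 0] : M3) *ᵥ y) = hermForm 3 F q x y := by
    intro x y
    rw [e1, e1, herm_def, herm_def, Fin.sum_univ_three, Fin.sum_univ_three]
    simp only [Matrix.cons_val_zero, Matrix.cons_val_one, Matrix.cons_val, hq.neg_pow]
    ring
  have hsd : (!![-1, 0, 0; 0, 0, 1; 0, 1, 0] : M3).det = 1 := by
    rw [Matrix.det_fin_three]
    simp
  let x : SU 3 F q := Cfsg.Agent.ClassicalGeometry.UnitTransv.mk _ hdet hherm
  let s : SU 3 F q := Cfsg.Agent.ClassicalGeometry.UnitTransv.mk _ hsd hs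
  refine ⟨lam, x, hol, ⟨s, ?_⟩, rfl⟩
  apply eq_inv_of_mul_eq_one_left
  have hss : s * s = 1 := by
    apply Cfsg.Agent.ClassicalGeometry.UnitTransv.ext_act
    intro z
    rw [Cfsg.Agent.ClassicalGeometry.UnitTransv.act_mul, Cfsg.Agent.ClassicalGeometry.UnitTransv.act_one,
      Cfsg.Agent.ClassicalGeometry.UnitTransv.act_mk, Cfsg.Agent.ClassicalGeometry.UnitTransv.act_mk, e1, e1]
    ext i
    fin_cases i <;> simp
  rw [show s⁻¹ = s from inv_eq_of_mul_eq_one_left hss]
  apply Cfsg.Agent.ClassicalGeometry.UnitTransv.ext_act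
  intro z
  rw [Cfsg.Agent.ClassicalGeometry.UnitTransv.act_mul, Cfsg.Agent.ClassicalGeometry.UnitTransv.act_mul,
    Cfsg.Agent.ClassicalGeometry.UnitTransv.act_mul, Cfsg.Agent.ClassicalGeometry.UnitTransv.act_one,
    Cfsg.Agent.ClassicalGeometry.UnitTransv.act_mk, Cfsg.Agent.ClassicalGeometry.UnitTransv.act_mk,
    Cfsg.Agent.ClassicalGeometry.UnitTransv.act_mk, Cfsg.Agent.ClassicalGeometry.UnitTransv.act_mk, e1, e2, e1, e2]
  ext i
  fin_cases i <;> simp

end Cfsg.Agent.H746.OddM.ThreeU
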